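import Groth.Agent.Lib.GenSubgrp14.Connected
import Groth.Agent.Lib.Poincare.Regular
import Groth.Agent.Lib.Cube.Generic
import Groth.Agent.Lib.AntMax16.Main
import Groth.Agent.Lib.Rigidity.AbImage

/-!
# Complete subvarieties of minimal anti-affine groups
-/

set_option autoImplicit false
set_option backward.isDefEq.respectTransparency false
set_option linter.style.haveILetI false

universe u

open CategoryTheory CategoryTheory.Limits MonoidalCategory CartesianMonoidalCategory MonObj GrpObj AlgebraicGeometry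

noncomputable section

namespace GrothLib.AntMin16

variable {k : Type u} [Field k]

local notation "𝒞" => Over (Spec (CommRingCat.of k))

theorem isProper_tensor (A B : 𝒞) [IsProper A.hom] [IsProper B.hom] : IsProper (A ⊗ B).hom :=
  inferInstanceAs (IsProper (pullback.fst A.hom B.hom ≫ A.hom))

theorem geometricallyIntegral_id : GeometricallyIntegral (𝟙 (Spec (CommRingCat.of k))) := by
  refine ⟨fun L _ y W fst snd h => ?_⟩
  haveI : IsIso snd := h.isIso_snd_of_isIso
  haveI : IsIntegral (Spec (CommRingCat.of L)) := inferInstance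
  haveI : Nonempty W := ⟨(inv snd) default⟩
  exact isIntegral_of_isOpenImmersion snd

variable {G : Over (Spec (CommRingCat.of k))} [GrpObj G] [LocallyOfFiniteType G.hom] [QuasiCompact G.hom]

/-- Words in a proper geometrically integral family are proper and geometrically integral. -/
theorem props_word {Y : 𝒞} [IsProper Y.hom] [GeometricallyIntegral Y.hom] {d : Y ⟶ G} {W : 𝒞} {w : W ⟶ G}
    (h : GenSubgrp14.IsWord (GenSubgrp14.Single d) W w) : IsProper W.hom ∧ GeometricallyIntegral W.hom := by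
  induction h with
  | one => exact ⟨inferInstanceAs (IsProper (𝟙 _)), geometricallyIntegral_id⟩
  | of h => cases h; exact ⟨inferInstance, inferInstance⟩
  | inv _ ih => exact ih
  | @mul W W' _ _ _ _ ih ih' =>
    haveI := ih.1; haveI := ih.2; haveI := ih'.1; haveI := ih'.2
    exact ⟨isProper_tensor W W', Poincare.geometricallyIntegral_tensor W W'⟩

/-- The subgroup generated by a proper geometrically integral family through the unit is proper. -/
theorem exists_proper_subgroup {Y : 𝒞} [IsProper Y.hom] [GeometricallyIntegral Y.hom] (d : Y ⟶ G)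
    {T₀ : 𝒞} [Nonempty T₀.left] (δ : T₀ ⟶ Y) (hδ : δ ≫ d = 1) :
    ∃ (B : 𝒞) (_ : GrpObj B) (b : B ⟶ G), IsMonHom b ∧ IsClosedImmersion b.left ∧ IsProper B.hom ∧
      GeometricallyIntegral B.hom ∧ ∃ l : Y ⟶ B, l ≫ b = d := by
  have hGen : ∀ (A : 𝒞) (f : A ⟶ G), GenSubgrp14.Single d A f → GeometricallyReduced A.hom := by
    rintro A f h; cases h; infer_instance
  obtain ⟨E⟩ := GenSubgrp14.nonempty_envelope (GenSubgrp14.Single d) hGen
  obtain ⟨B, gB, b, hb, hbc, hBr, hrange, hlift⟩ := E
  haveI := hb; haveI := hbc; haveI := hBr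
  haveI : LocallyOfFiniteType B.hom := by rw [← Over.w b]; infer_instance
  haveI : IsSeparated G.hom := GrpSchField.isSeparated G
  haveI : IsLocallyNoetherian G.left := LocallyOfFiniteType.isLocallyNoetherian G.hom
  -- a pointed test object for every word
  have htest : ∀ {W : 𝒞} {w : W ⟶ G}, GenSubgrp14.IsWord (GenSubgrp14.Single d) W w →
      ∃ t : T₀ ⟶ W, t ≫ w = 1 := by
    intro W w hw
    induction hw with
    | one => exact ⟨toUnit T₀, (Hom.one_def).symm⟩
    | of h => cases h; exact ⟨δ, hδ⟩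
    | inv _ ih => obtain ⟨t, ht⟩ := ih; exact ⟨t, by rw [GrpObj.comp_inv, ht, inv_one]⟩
    | @mul W W' _ _ _ _ ih ih' =>
      obtain ⟨t, ht⟩ := ih
      obtain ⟨t', ht'⟩ := ih'
      exact ⟨lift t t', by rw [MonObj.comp_mul, lift_fst_assoc, lift_snd_assoc, ht, ht', _root_.mul_one]⟩
  have hcl : ∀ {W : 𝒞} {w : W ⟶ G}, GenSubgrp14.IsWord (GenSubgrp14.Single d) W w →
      IsIrreducible (Set.range w.left) ∧ IsClosed (Set.range w.left) := by
    intro W w hw
    obtain ⟨hp, hi⟩ := props_word hw
    haveI : IsIntegral W.left := GeometricallyIntegral.isIntegral_of_subsingleton W.hom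
    haveI : IsProper (w.left ≫ G.hom) := by rw [Over.w w]; exact hp
    haveI : IsProper w.left := IsProper.of_comp w.left G.hom
    refine ⟨?_, w.left.isClosedMap.isClosed_range⟩
    rw [← Set.image_univ]
    exact (IrreducibleSpace.isIrreducible_univ _).image _ w.left.continuous.continuousOn
  have hmul : ∀ {W W' : 𝒞} (w : W ⟶ G) (w' : W' ⟶ G) (t : T₀ ⟶ W'), t ≫ w' = 1 →
      Set.range w.left ⊆ Set.range ((fst W W' ≫ w) * (snd W W' ≫ w')).left ∧
      Set.range w.left ⊆ Set.range ((fst W' W ≫ w') * (snd W' W ≫ w)).left := by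
    intro W W' w w' t ht
    haveI : Surjective (fst W T₀).left := by
      haveI : Surjective T₀.hom := ⟨fun s => ⟨Classical.arbitrary _, Subsingleton.elim (α := PrimeSpectrum k) _ _⟩⟩
      exact inferInstanceAs (Surjective (pullback.fst W.hom T₀.hom))
    constructor
    · rintro _ ⟨p, rfl⟩
      obtain ⟨r, rfl⟩ := (fst W T₀).left.surjective p
      refine ⟨(lift (fst W T₀) (snd W T₀ ≫ t)).left r, ?_⟩
      rw [← Scheme.Hom.comp_apply, ← Over.comp_left, MonObj.comp_mul, lift_fst_assoc, lift_snd_assoc,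
        Category.assoc, ht, MonObj.comp_one, _root_.mul_one, Over.comp_left, Scheme.Hom.comp_apply]
    · rintro _ ⟨p, rfl⟩
      obtain ⟨r, rfl⟩ := (fst W T₀).left.surjective p
      refine ⟨(lift (snd W T₀ ≫ t) (fst W T₀)).left r, ?_⟩
      rw [← Scheme.Hom.comp_apply, ← Over.comp_left, MonObj.comp_mul, lift_fst_assoc, lift_snd_assoc,
        Category.assoc, ht, MonObj.comp_one, _root_.one_mul, Over.comp_left, Scheme.Hom.comp_apply]
  let 𝒲 : Set G.left := {ζ | ∃ (W : 𝒞) (w : W ⟶ G), GenSubgrp14.IsWord (GenSubgrp14.Single d) W w ∧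
    IsGenericPoint ζ (Set.range w.left)}
  have h𝒲 : 𝒲.Nonempty := by
    have h1 := hcl (.one : GenSubgrp14.IsWord (GenSubgrp14.Single d) _ _)
    obtain ⟨ζ, hζ⟩ := QuasiSober.sober h1.1 h1.2
    exact ⟨ζ, _, _, .one, hζ⟩
  obtain ⟨ζ, ⟨W, w, hw, hζ⟩, hmin⟩ := WellFounded.has_min
    (InvImage.wf (fun ζ : G.left => (Order.coheight ζ : ℕ∞)) wellFounded_lt) 𝒲 h𝒲
  have hmax : GenSubgrp14.wordSet (GenSubgrp14.Single d) ⊆ Set.range w.left := by
    rintro g ⟨W', w', hw', hg⟩
    obtain ⟨t, ht⟩ := htest hw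
    obtain ⟨t', ht'⟩ := htest hw'
    let ww := (fst W W' ≫ w) * (snd W W' ≫ w')
    have hww : GenSubgrp14.IsWord (GenSubgrp14.Single d) (W ⊗ W') ww := .mul hw hw'
    have hsub1 : Set.range w.left ⊆ Set.range ww.left := (hmul w w' t' ht').1
    have hsub2 : Set.range w'.left ⊆ Set.range ww.left := (hmul w' w t ht).2
    obtain ⟨ζ', hζ'⟩ := QuasiSober.sober (hcl hww).1 (hcl hww).2
    have hsp : ζ' ⤳ ζ := hζ'.specializes (hsub1 hζ.mem)
    have heq : ζ' = ζ := by
      by_contra hne
      refine hmin ζ' ⟨_, _, hww, hζ'⟩ ?_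
      show Order.coheight ζ' < Order.coheight ζ
      have hlt : ζ < ζ' := lt_iff_le_not_ge.2 ⟨hsp, fun h' => hne (hsp.antisymm h').eq⟩
      refine Order.coheight_strictAnti hlt ?_
      have h3 := ringKrullDim_stalk_eq_coheight ζ'
      have h4 : ringKrullDim (G.left.presheaf.stalk ζ') < ⊤ := ringKrullDim_lt_top
      rw [h3] at h4
      exact WithBot.coe_lt_coe.1 h4
    have h5 : Set.range ww.left = Set.range w.left := by
      rw [← hζ.def, ← hζ'.def, heq]
    exact h5 ▸ hsub2 hg
  obtain ⟨l, hl⟩ := hlift W w hw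
  obtain ⟨hWp, hWi⟩ := props_word hw
  haveI := hWp; haveI := hWi
  haveI : Surjective l.left := by
    refine ⟨fun z => ?_⟩
    have h1 : b.left z ∈ Set.range w.left :=
      closure_minimal hmax (hcl hw).2 (hrange ▸ Set.mem_range_self z)
    obtain ⟨p, hp⟩ := h1
    refine ⟨p, b.left.isClosedEmbedding.injective ?_⟩
    rw [← Scheme.Hom.comp_apply, ← Over.comp_left, hl]
    exact hp
  haveI : IsSeparated B.hom := GrpSchField.isSeparated B
  haveI : IsProper B.hom := by
    haveI : UniversallyClosed (l.left ≫ B.hom) := by rw [Over.w l]; infer_instance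
    haveI := UniversallyClosed.of_comp_surjective l.left B.hom
    exact { }
  haveI : ConnectedSpace B.left := by
    haveI : IsIntegral W.left := GeometricallyIntegral.isIntegral_of_subsingleton W.hom
    exact l.left.surjective.connectedSpace l.left.continuous
  exact ⟨B, gB, b, hb, hbc, inferInstance, Rigidity.geometricallyIntegral_of_connected B,
    hlift Y d (.of .mk)⟩

/-- A minimal anti-affine group which is not proper has no complete subvarieties of positive dimension. -/
theorem isProper_or_dim_eq_zero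
    (hmin : ∀ (H : 𝒞) [GrpObj H] (h : H ⟶ G) [IsMonHom h] [IsClosedImmersion h.left], ¬ IsIso h →
      AntiAffine.IsAntiAffine H → Red.IsTrivialGrp H) :
    IsProper G.hom ∨ ∀ (Z : 𝒞) (z : Z ⟶ G) [IsClosedImmersion z.left] [IsProper Z.hom]
      [GeometricallyIntegral Z.hom], topologicalKrullDim Z.left = 0 := by
  by_cases hG : IsProper G.hom
  · exact Or.inl hG
  refine Or.inr fun Z z _ _ _ => ?_
  haveI : IsIntegral Z.left := GeometricallyIntegral.isIntegral_of_subsingleton Z.hom
  haveI := isProper_tensor Z Z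
  haveI := Poincare.geometricallyIntegral_tensor Z Z
  let d : Z ⊗ Z ⟶ G := (fst Z Z ≫ z) * (snd Z Z ≫ z)⁻¹
  obtain ⟨B, gB, b, hb, hbc, hBp, hBi, l, hl⟩ := exists_proper_subgroup d (lift (𝟙 Z) (𝟙 Z)) (by
    simp only [d, MonObj.comp_mul, GrpObj.comp_inv, lift_fst_assoc, lift_snd_assoc, Category.id_comp,
      mul_inv_cancel])
  haveI := hb; haveI := hbc; haveI := hBp; haveI := hBi
  have hnot : ¬ IsIso b := by
    intro hi
    haveI := hi
    haveI : IsIso b.left := inferInstanceAs (IsIso ((Over.forget _).map b))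
    refine hG ?_
    rw [show G.hom = inv b.left ≫ B.hom by rw [IsIso.eq_inv_comp, Over.w b]]
    infer_instance
  have ht : Red.IsTrivialGrp B := hmin B b hnot (Cube.isAntiAffine_of_proper B η[B])
  have hB1 : 𝟙 B = 1 := by
    haveI : IsIso B.hom := ht
    refine Over.OverMorphism.ext ((cancel_mono B.hom).1 ?_)
    rw [Over.w, Over.w]
  have hd : (fst Z Z ≫ z) = snd Z Z ≫ z := by
    have : d = 1 := by rw [← hl, ← Category.comp_id l, hB1, MonObj.comp_one, MonObj.one_comp]
    exact mul_inv_eq_one.1 this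
  haveI : Mono z := Over.mono_of_mono_left z
  have hfs := (cancel_mono z).1 hd
  haveI : Mono Z.hom := by
    refine ⟨fun {T} a c hac => ?_⟩
    have h := congrArg (fun e => (lift (Over.homMk a rfl : Over.mk (a ≫ Z.hom) ⟶ Z)
      (Over.homMk c hac.symm) ≫ e).left) hfs
    simpa using h
  haveI : Subsingleton Z.left := ⟨fun x y =>
    haveI : IsClosedImmersion Z.hom := (IsClosedImmersion.iff_isProper_and_mono Z.hom).2 ⟨inferInstance, inferInstance⟩
    Z.hom.isClosedEmbedding.injective (Subsingleton.elim (α := PrimeSpectrum k) _ _)⟩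
  refine le_antisymm (topologicalKrullDim_zero_of_discreteTopology _) ?_
  haveI : Nonempty (TopologicalSpace.IrreducibleCloseds ↥Z.left) :=
    ⟨⟨Set.univ, IrreducibleSpace.isIrreducible_univ _, isClosed_univ⟩⟩
  exact Order.krullDim_nonneg

end GrothLib.AntMin16
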